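import Groth.Agent.H21Dyn.TorusCentralizer
import Groth.Agent.H02CA.Tori.Split
import Groth.Agent.H21Hom.SpecGrp
import Groth.Agent.H21Diag.Cover
import Groth.Agent.H21Fix.SmoothFixed
import Groth.Agent.H13SchFin.Connected
import Groth.Agent.H19Mult.FiniteDual
import Groth.Agent.H19Mult.Field

/-!
Centralizers of tori in connected affine groups over algebraically closed fields are connected.
-/

set_option autoImplicit false
set_option linter.style.haveILetI false
set_option backward.isDefEq.respectTransparency false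
set_option maxHeartbeats 1000000
set_option synthInstance.maxHeartbeats 400000

universe u

open CategoryTheory CategoryTheory.Limits MonoidalCategory CartesianMonoidalCategory MonObj GrpObj AlgebraicGeometry
open WithConv
open scoped TensorProduct

namespace Groth.Agent.H21Dyn

variable {k : Type u} [Field k]

/-- a group split over some extension splits over every algebraically closed extension -/
theorem exists_split_bc_of_split (T : Over (Spec (CommRingCat.of k))) [GrpObj T] {r : ℕ}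
    (h : ∃ (L : Type u) (_ : Field L) (_ : Algebra k L),
      Red.IsSplitTorusWith (Fin r → ℤ) (Red.bc (Spec.map (CommRingCat.ofHom (algebraMap k L))) T))
    (K : Type u) [Field K] [IsAlgClosed K] [Algebra k K] :
    ∃ e : (Spec (CommRingCat.of (Lat K r))).asOver (Spec (CommRingCat.of K)) ≅
      Red.bc (Spec.map (CommRingCat.ofHom (algebraMap k K))) T, IsMonHom e.hom := by
  obtain ⟨A, _, _, eA, hA, ⟨P⟩⟩ := H02CA.Tori.exists_galSplit T h
  let emb : P.L →ₐ[k] K := IsAlgClosed.lift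
  letI : Algebra P.L K := emb.toRingHom.toAlgebra
  haveI : IsScalarTower k P.L K := IsScalarTower.of_algebraMap_eq fun x => (emb.commutes x).symm
  let ue : Multiplicative (Fin r → ℤ) ≃* Multiplicative (ULift.{u} (Fin r → ℤ)) :=
    AddEquiv.toMultiplicative AddEquiv.ulift.symm
  obtain ⟨eK⟩ := H19Mult.isDiag_baseChange (P.chart.trans (MonoidAlgebra.domCongrBialgEquiv P.L P.L ue)) K
  obtain ⟨i⟩ := H21Hom.nonempty_iso_of_bialgEquiv (eK.trans (MonoidAlgebra.domCongrBialgEquiv K K ue.symm))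
  obtain ⟨j⟩ := H21Hom.nonempty_bc_specGrp (R := k) A K
  haveI := hA
  let E : Grp.mk (H21Hom.specGrp K (Lat K r)) ≅
      Grp.mk (Red.bc (Spec.map (CommRingCat.ofHom (algebraMap k K))) T) :=
    i ≪≫ j.symm ≪≫ H21Diag.bcMapIso _ (Grp.mkIso' eA)
  exact ⟨(Grp.forget _).mapIso E, E.hom.hom.isMonHom_hom⟩

/-- every base change of a torus to a field is split over some extension -/
theorem exists_split_of_isTorus {S : Scheme.{u}} (T : Over S) [GrpObj T] (hT : Red.IsTorus T)
    (v : Spec (CommRingCat.of k) ⟶ S) :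
    ∃ (r : ℕ) (L : Type u) (_ : Field L) (_ : Algebra k L),
      Red.IsSplitTorusWith (Fin r → ℤ) (Red.bc (Spec.map (CommRingCat.ofHom (algebraMap k L))) (Red.bc v T)) := by
  obtain ⟨S', f, hf, hs, -, hloc⟩ := hT
  haveI := hs
  obtain ⟨p, -⟩ := (inferInstance : Surjective (pullback.snd f v)).surj (IsLocalRing.closedPoint k)
  obtain ⟨U, hU, r, ⟨e⟩⟩ := hloc (pullback.fst f v p)
  let L := (pullback f v).residueField p
  let y : Spec L ⟶ pullback f v := (pullback f v).fromSpecResidueField p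
  obtain ⟨β, hβ⟩ := Spec.map_surjective (y ≫ pullback.snd f v)
  letI : Algebra k L := β.hom.toAlgebra
  have hr : Set.range (y ≫ pullback.fst f v) ⊆ Set.range U.ι := by
    rintro _ ⟨q, rfl⟩
    rw [Scheme.Hom.comp_apply, show y q = p from Scheme.fromSpecResidueField_apply _ _]
    exact U.range_ι.ge hU
  refine ⟨r, L, inferInstance, inferInstance, ⟨(H21Diag.bcCompIso _ v T).symm ≪≫
    H21Diag.restrictChart e (IsOpenImmersion.lift U.ι (y ≫ pullback.fst f v) hr) ?_⟩⟩
  rw [IsOpenImmersion.lift_fac_assoc, Category.assoc, pullback.condition, ← Category.assoc y, ← hβ]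
  rfl

/-- a torus over a field splits over every algebraically closed extension -/
theorem exists_split_bc (T : Over (Spec (CommRingCat.of k))) [GrpObj T] (hT : Red.IsTorus T)
    (K : Type u) [Field K] [IsAlgClosed K] [Algebra k K] :
    ∃ (n : ℕ) (e : (Spec (CommRingCat.of (Lat K n))).asOver (Spec (CommRingCat.of K)) ≅
      Red.bc (Spec.map (CommRingCat.ofHom (algebraMap k K))) T), IsMonHom e.hom := by
  obtain ⟨r, L, _, _, ⟨e⟩⟩ := exists_split_of_isTorus T hT (𝟙 _)
  let c : Grp.mk (Red.bc (𝟙 _) T) ≅ Grp.mk T := Grp.mkIso' (asIso (H21Diag.bcIdHom T))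
  exact ⟨r, exists_split_bc_of_split T ⟨L, inferInstance, inferInstance, ⟨(H21Diag.bcMapIso _ c).symm ≪≫ e⟩⟩ K⟩

/-- over an algebraically closed field a split group is the spectrum of a lattice algebra -/
theorem exists_split_algClosed_of_split [IsAlgClosed k] (T : Over (Spec (CommRingCat.of k))) [GrpObj T] {r : ℕ}
    (h : ∃ (L : Type u) (_ : Field L) (_ : Algebra k L),
      Red.IsSplitTorusWith (Fin r → ℤ) (Red.bc (Spec.map (CommRingCat.ofHom (algebraMap k L))) T)) :
    ∃ e : (Spec (CommRingCat.of (Lat k r))).asOver (Spec (CommRingCat.of k)) ≅ T, IsMonHom e.hom := by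
  obtain ⟨e, he⟩ := exists_split_bc_of_split T h k
  haveI := he
  have h1 : Spec.map (CommRingCat.ofHom (algebraMap k k)) = 𝟙 _ := Spec.map_id _
  let c : Grp.mk (Red.bc (Spec.map (CommRingCat.ofHom (algebraMap k k))) T) ≅ Grp.mk T :=
    H21Diag.bcCongrIso h1 T ≪≫ Grp.mkIso' (asIso (H21Diag.bcIdHom T))
  let E := Grp.mkIso' e ≪≫ c
  exact ⟨(Grp.forget _).mapIso E, E.hom.hom.isMonHom_hom⟩

/-- over an algebraically closed field a torus is split -/
theorem exists_split_algClosed [IsAlgClosed k] (T : Over (Spec (CommRingCat.of k))) [GrpObj T]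
    (hT : Red.IsTorus T) :
    ∃ (n : ℕ) (e : (Spec (CommRingCat.of (Lat k n))).asOver (Spec (CommRingCat.of k)) ≅ T), IsMonHom e.hom := by
  obtain ⟨r, L, _, _, ⟨e⟩⟩ := exists_split_of_isTorus T hT (𝟙 _)
  let c : Grp.mk (Red.bc (𝟙 _) T) ≅ Grp.mk T := Grp.mkIso' (asIso (H21Diag.bcIdHom T))
  exact ⟨r, exists_split_algClosed_of_split T ⟨L, inferInstance, inferInstance, ⟨(H21Diag.bcMapIso _ c).symm ≪≫ e⟩⟩⟩

/-- morphisms into a scheme are determined on affine points -/
theorem hom_ext_points {T G : Over (Spec (CommRingCat.of k))} (a b : T ⟶ G)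
    (h : ∀ (R : Type u) [CommRing R] [Algebra k R] (v : H21Fix.pS k R ⟶ T), v ≫ a = v ≫ b) : a = b := by
  refine Over.OverMorphism.ext (Scheme.Cover.hom_ext (T.left.openCoverOfIsOpenCover
    (fun V : T.left.affineOpens => (V : T.left.Opens)) (iSup_affineOpens_eq_top T.left)) _ _ fun V => ?_)
  obtain ⟨_, j, hj⟩ := H21Fix.exists_chart (X := T) V.2
  have := congrArg (fun m => V.2.isoSpec.hom ≫ m.left) (h _ j)
  simp only [Over.comp_left, hj] at this
  show (V : T.left.affineOpens).1.ι ≫ a.left = (V : T.left.affineOpens).1.ι ≫ b.left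
  rwa [← V.2.isoSpec_inv_ι, Category.assoc, Category.assoc, Iso.hom_inv_id_assoc, Iso.hom_inv_id_assoc] at this

theorem connectedSpace_centralizer_split (G : Over (Spec (CommRingCat.of k))) [GrpObj G]
    [IsAffine G.left] [LocallyOfFiniteType G.hom] [ConnectedSpace G.left]
    (Q : Over (Spec (CommRingCat.of k))) [GrpObj Q] {n : ℕ}
    (eQ : (Spec (CommRingCat.of (Lat k n))).asOver (Spec (CommRingCat.of k)) ≅ Q) (hQ' : IsMonHom eQ.hom)
    (i : Q ⟶ G) [IsMonHom i]
    (C : Over (Spec (CommRingCat.of k))) (c : C ⟶ G) [Mono c]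
    (hC : ∀ (X : Over (Spec (CommRingCat.of k))) (g : X ⟶ G), (∃ z : X ⟶ C, z ≫ c = g) ↔
      ∀ (X' : Over (Spec (CommRingCat.of k))) (x : X' ⟶ X) (q : X' ⟶ Q),
        (x ≫ g) * (q ≫ i) = (q ≫ i) * (x ≫ g)) :
    ConnectedSpace C.left := by
  obtain ⟨A, _, _, eG, hG⟩ := H02CA.Tori.exists_hopf G
  haveI := hG
  haveI := hQ'
  haveI : IsIso eG.hom.left := ((Over.forget _).mapIso eG).isIso_hom
  have hft : Algebra.FiniteType k A := by
    have : LocallyOfFiniteType (Spec.map (CommRingCat.ofHom (algebraMap k A))) := by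
      show LocallyOfFiniteType ((Spec (CommRingCat.of A)).asOver (Spec (CommRingCat.of k))).hom
      rw [← Over.w eG.hom]; infer_instance
    rw [HasRingHomProperty.Spec_iff (P := @LocallyOfFiniteType)] at this
    exact RingHom.finiteType_algebraMap.1 this
  haveI : ConnectedSpace (PrimeSpectrum A) :=
    (Scheme.homeoOfIso (asIso eG.hom.left)).symm.surjective.connectedSpace
      (Scheme.homeoOfIso (asIso eG.hom.left)).symm.continuous
  let h₀ : (Spec (CommRingCat.of (Lat k n))).asOver (Spec (CommRingCat.of k)) ⟶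
      (Spec (CommRingCat.of A)).asOver (Spec (CommRingCat.of k)) := eQ.hom ≫ i ≫ eG.inv
  haveI : IsMonHom h₀ := inferInstanceAs (IsMonHom (eQ.hom ≫ i ≫ eG.inv))
  let F := hopfSpec (CommRingCat.of k)
  let hgrp : F.obj (Opposite.op (CommHopfAlgCat.of k (Lat k n))) ⟶ F.obj (Opposite.op (CommHopfAlgCat.of k A)) :=
    Grp.homMk h₀
  let ψ : A →ₐc[k] Lat k n := ((hopfSpec.fullyFaithful (R := CommRingCat.of k)).preimage hgrp).unop.hom
  have hψ : Spec.map (CommRingCat.ofHom (ψ : A →ₐ[k] Lat k n).toRingHom) = h₀.left :=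
    congrArg (fun m => m.hom.hom.left) ((hopfSpec.fullyFaithful (R := CommRingCat.of k)).map_preimage hgrp)
  have hpre : ∀ {R : Type u} [CommRing R] [Algebra k R] (t : WithConv (Lat k n →ₐ[k] R)),
      H02CA.Tori.pts eG R (H20Dyn.pre ψ t) = H02CA.Tori.pts eQ R t ≫ i := by
    intro R _ _ t
    refine Over.OverMorphism.ext ?_
    show Spec.map (CommRingCat.ofHom (t.ofConv.comp (ψ : A →ₐ[k] Lat k n)).toRingHom) ≫ eG.hom.left =
      (Spec.map (CommRingCat.ofHom t.ofConv.toRingHom) ≫ eQ.hom.left) ≫ i.left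
    rw [show CommRingCat.ofHom (t.ofConv.comp (ψ : A →ₐ[k] Lat k n)).toRingHom =
      CommRingCat.ofHom (ψ : A →ₐ[k] Lat k n).toRingHom ≫ CommRingCat.ofHom t.ofConv.toRingHom from rfl,
      Spec.map_comp, hψ, Category.assoc, Category.assoc]
    congr 1
    show (h₀ ≫ eG.hom).left = (eQ.hom ≫ i).left
    congr 1
    simp [h₀]
  have hpost : ∀ {R R' : Type u} [CommRing R] [Algebra k R] [CommRing R'] [Algebra k R'] (φ : R →ₐ[k] R')
      (g : WithConv (A →ₐ[k] R)), H02CA.Tori.pts eG R' (H20Dyn.post φ g) = H21Fix.pM φ ≫ H02CA.Tori.pts eG R g := by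
    intro R R' _ _ _ _ φ g
    exact Over.OverMorphism.ext (H02CA.Tori.pts_nat eG φ g.ofConv)
  obtain ⟨J, hJ, hrep⟩ := exists_torus_centralizer (fun e he => H19Mult.connected_idem e he) ψ
  have hone : ∀ x ∈ J, (1 : WithConv (A →ₐ[k] k)).ofConv x = 0 :=
    (hrep k 1).2 fun R' _ _ φ t => by rw [map_one, _root_.one_mul, _root_.mul_one]
  haveI : Nontrivial (A ⧸ J) :=
    (Ideal.Quotient.lift J (1 : WithConv (A →ₐ[k] k)).ofConv.toRingHom hone).domain_nontrivial
  haveI := H13SchFin.connectedSpace_of_idempotent hJ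
  let g₀ : WithConv (A →ₐ[k] A ⧸ J) := toConv (Ideal.Quotient.mkₐ k J)
  obtain ⟨w, hw⟩ := (hC _ (H02CA.Tori.pts eG _ g₀)).2 fun X' x q => hom_ext_points _ _ fun R _ _ v => by
    obtain ⟨φ, hφ⟩ := H21Fix.pM_surjective (v ≫ x)
    have h1 : v ≫ x ≫ H02CA.Tori.pts eG _ g₀ = H02CA.Tori.pts eG R (H20Dyn.post φ g₀) := by
      rw [hpost, hφ, Category.assoc]
    have h2 : v ≫ q ≫ i = H02CA.Tori.pts eG R (H20Dyn.pre ψ ((H02CA.Tori.pts eQ R).symm (v ≫ q))) := by
      rw [hpre, MulEquiv.apply_symm_apply, Category.assoc]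
    have h3 := (hrep _ g₀).1 (fun y hy => Ideal.Quotient.eq_zero_iff_mem.2 hy) R φ
      ((H02CA.Tori.pts eQ R).symm (v ≫ q))
    rw [MonObj.comp_mul, MonObj.comp_mul, h1, h2, ← map_mul, ← map_mul, h3]
  refine Function.Surjective.connectedSpace (α := PrimeSpectrum (A ⧸ J)) (f := fun p => w.left p) (fun p => ?_)
    w.left.continuous
  obtain ⟨U, hU, hpU, -⟩ := exists_isAffineOpen_mem_and_subset (U := (⊤ : C.left.Opens)) (x := p) trivial
  obtain ⟨_, u, hu⟩ := H21Fix.exists_chart (X := C) hU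
  let g : WithConv (A →ₐ[k] Γ(C.left, U)) := (H02CA.Tori.pts eG _).symm (u ≫ c)
  have hg : H02CA.Tori.pts eG _ g = u ≫ c := MulEquiv.apply_symm_apply _ _
  have hgJ : ∀ x ∈ J, g.ofConv x = 0 := (hrep _ g).2 fun R' _ _ φ t => (H02CA.Tori.pts eG R').injective (by
    have h := (hC _ (u ≫ c)).1 ⟨u, rfl⟩ _ (H21Fix.pM φ) (H02CA.Tori.pts eQ R' t)
    rw [map_mul, map_mul, hpost, hpre, hg]
    exact h)
  let φJ : A ⧸ J →ₐ[k] Γ(C.left, U) := Ideal.Quotient.liftₐ J g.ofConv hgJ
  have hfac : H21Fix.pM φJ ≫ w = u := (cancel_mono c).1 (by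
    rw [Category.assoc, hw, ← hpost, ← hg]
    rfl)
  obtain ⟨q, hq⟩ : p ∈ Set.range u.left := by rw [hu]; exact hU.range_fromSpec.ge hpU
  exact ⟨(H21Fix.pM φJ).left q, ((congrArg (fun m : H21Fix.pS k Γ(C.left, U) ⟶ C => m.left q) hfac).trans hq)⟩

theorem connectedSpace_centralizer_torus [IsAlgClosed k] (G : Over (Spec (CommRingCat.of k))) [GrpObj G]
    [IsAffine G.left] [LocallyOfFiniteType G.hom] [ConnectedSpace G.left]
    (Q : Over (Spec (CommRingCat.of k))) [GrpObj Q] (hQ : Red.IsTorus Q) (i : Q ⟶ G) [IsMonHom i]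
    (C : Over (Spec (CommRingCat.of k))) (c : C ⟶ G) [Mono c]
    (hC : ∀ (X : Over (Spec (CommRingCat.of k))) (g : X ⟶ G), (∃ z : X ⟶ C, z ≫ c = g) ↔
      ∀ (X' : Over (Spec (CommRingCat.of k))) (x : X' ⟶ X) (q : X' ⟶ Q),
        (x ≫ g) * (q ≫ i) = (q ≫ i) * (x ≫ g)) :
    ConnectedSpace C.left := by
  obtain ⟨n, eQ, he⟩ := exists_split_algClosed Q hQ
  exact connectedSpace_centralizer_split G Q eQ he i C c hC

end Groth.Agent.H21Dyn
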