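import Groth.Agent.H21Dyn.Scheme
import Groth.Agent.H19Grp.ConnFibre
import Groth.Prelude.Def_ActBC
import Groth.Prelude.Def_Red2

/-!
Centralizers of tori in connected affine groups over fields are connected.
-/

set_option autoImplicit false
set_option linter.style.haveILetI false
set_option backward.isDefEq.respectTransparency false
set_option maxHeartbeats 1000000
set_option synthInstance.maxHeartbeats 400000

universe u

open CategoryTheory CategoryTheory.Limits MonoidalCategory CartesianMonoidalCategory MonObj GrpObj AlgebraicGeometry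

namespace Groth.Agent.H21Dyn

/-- centralizers commute with base change -/
theorem centralizer_bc {S S' : Scheme.{u}} (v : S' ⟶ S) {G Q C : Over S} [GrpObj G] (i : Q ⟶ G) (c : C ⟶ G)
    (hC : ∀ (X : Over S) (g : X ⟶ G), (∃ z : X ⟶ C, z ≫ c = g) ↔
      ∀ (X' : Over S) (x : X' ⟶ X) (q : X' ⟶ Q), (x ≫ g) * (q ≫ i) = (q ≫ i) * (x ≫ g))
    (T : Over S') (g : T ⟶ Red.bc v G) :
    (∃ z : T ⟶ Red.bc v C, z ≫ (Over.pullback v).map c = g) ↔
      ∀ (T' : Over S') (t : T' ⟶ T) (q : T' ⟶ Red.bc v Q),
        (t ≫ g) * (q ≫ (Over.pullback v).map i) = (q ≫ (Over.pullback v).map i) * (t ≫ g) := by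
  let he := fun (P : Over S') (Z : Over S) => (Over.mapPullbackAdj v).homEquiv P Z
  obtain ⟨g₀, rfl⟩ := (he T G).surjective g
  constructor
  · rintro ⟨z, hz⟩ T' t q
    obtain ⟨z₀, rfl⟩ := (he T C).surjective z
    obtain ⟨q₀, rfl⟩ := (he T' Q).surjective q
    rw [← Adjunction.homEquiv_naturality_right] at hz
    rw [← Adjunction.homEquiv_naturality_left, ← Adjunction.homEquiv_naturality_right,
      ← AlgGrp.Action.homEquiv_mul, ← AlgGrp.Action.homEquiv_mul]
    exact congrArg _ ((hC _ g₀).mp ⟨z₀, (he T G).injective hz⟩ _ _ q₀)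
  · intro h
    obtain ⟨z₀, hz₀⟩ := (hC _ g₀).mpr (fun X x q => by
      let T' : Over S' := Over.mk (x.left ≫ T.hom)
      let e : (Over.map v).obj T' ≅ X := Over.isoMk (Iso.refl _) (by
        have := Over.w x; simp only [Over.map_obj_hom] at this
        simp [T', this])
      let t : T' ⟶ T := Over.homMk x.left rfl
      have ht : (Over.map v).map t = e.hom ≫ x := by ext : 1; simp [t, e]
      have h1 := h T' t (he T' Q (e.hom ≫ q))
      rw [← Adjunction.homEquiv_naturality_left, ← Adjunction.homEquiv_naturality_right,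
        ← AlgGrp.Action.homEquiv_mul, ← AlgGrp.Action.homEquiv_mul, ht, Category.assoc, Category.assoc,
        ← MonObj.comp_mul, ← MonObj.comp_mul] at h1
      exact (cancel_epi e.hom).mp ((he T' G).injective h1))
    exact ⟨he T C z₀, by rw [← Adjunction.homEquiv_naturality_right, hz₀]⟩

variable {k : Type u} [Field k]

theorem connectedSpace_centralizer_field (G : Over (Spec (CommRingCat.of k))) [GrpObj G] [IsAffine G.left]
    [LocallyOfFiniteType G.hom] [ConnectedSpace G.left]
    (Q : Over (Spec (CommRingCat.of k))) [GrpObj Q] (hQ : Red.IsTorus Q) (i : Q ⟶ G) [IsMonHom i]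
    (C : Over (Spec (CommRingCat.of k))) (c : C ⟶ G) [Mono c]
    (hC : ∀ (X : Over (Spec (CommRingCat.of k))) (g : X ⟶ G), (∃ z : X ⟶ C, z ≫ c = g) ↔
      ∀ (X' : Over (Spec (CommRingCat.of k))) (x : X' ⟶ X) (q : X' ⟶ Q),
        (x ≫ g) * (q ≫ i) = (q ≫ i) * (x ≫ g)) :
    ConnectedSpace C.left := by
  let K := AlgebraicClosure k
  let v := Spec.map (CommRingCat.ofHom (algebraMap k K))
  obtain ⟨n, eQ, he⟩ := exists_split_bc Q hQ K
  haveI : IsMonHom ((Over.pullback v).map i : Red.bc v Q ⟶ Red.bc v G) := H21Diag.isMonHom_bcMap v i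
  haveI : IsAffine (Red.bc v G).left := inferInstanceAs (IsAffine (pullback G.hom v))
  haveI : LocallyOfFiniteType (Red.bc v G).hom := inferInstanceAs (LocallyOfFiniteType (pullback.snd G.hom v))
  haveI : Nonempty G.left := ConnectedSpace.toNonempty
  haveI : Surjective v := ⟨fun _ => ⟨IsLocalRing.closedPoint K, Subsingleton.elim (α := PrimeSpectrum k) _ _⟩⟩
  haveI : ConnectedSpace (Red.bc v G).left := by
    haveI hgi : GeometricallyIrreducible (Red.bc v G).hom := by
      haveI := H19Grp.geometricallyIrreducible_of_connectedSpace_group G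
      exact inferInstanceAs (GeometricallyIrreducible (pullback.snd G.hom v))
    haveI : Nonempty (Red.bc v G).left := by
      obtain ⟨x⟩ := ‹Nonempty G.left›
      obtain ⟨y, -⟩ := (inferInstance : Surjective (pullback.fst G.hom v)).surj x
      exact ⟨y⟩
    haveI : IrreducibleSpace (Red.bc v G).left :=
      @GeometricallyIrreducible.irreducibleSpace_of_subsingleton _ _ (Red.bc v G).hom hgi
        (inferInstanceAs (Subsingleton (PrimeSpectrum K))) (inferInstanceAs (Nonempty (PrimeSpectrum K)))
    infer_instance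
  haveI : Mono ((Over.pullback v).map c) := inferInstance
  haveI : ConnectedSpace ↥(pullback C.hom v) := connectedSpace_centralizer_split (Red.bc v G) (Red.bc v Q) eQ he ((Over.pullback v).map i)
    (Red.bc v C) ((Over.pullback v).map c) (centralizer_bc v i c hC)
  exact (inferInstance : Surjective (pullback.fst C.hom v)).surj.connectedSpace
    (pullback.fst C.hom v).continuous

end Groth.Agent.H21Dyn
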