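import Groth.Agent.S3307
import Groth.Agent.H20Dyn.BigCellField

/-!
Centralizers of commuting one-parameter subgroups in connected affine groups are connected.
-/

set_option autoImplicit false
set_option linter.style.haveILetI false
set_option maxHeartbeats 1000000

universe u

open LaurentPolynomial TensorProduct WithConv
open Groth.Agent.H20Dyn

namespace Groth.Agent.H21Dyn

noncomputable section

variable {k : Type u} [CommRing k] {A : Type u} [CommRing A] [HopfAlgebra k A]

section one

variable (lam : A →ₐc[k] k[T;T⁻¹])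

/-- the components of non-zero degree -/
def fixIdeal : Ideal A := Ideal.span {x | ∃ (a : A) (n : ℤ), n ≠ 0 ∧ (theta k A lam a).coeff n = x}

theorem fix_iff {R : Type u} [CommRing R] [Algebra k R] (g : WithConv (A →ₐ[k] R)) :
    (∀ x ∈ fixIdeal lam, g.ofConv x = 0) ↔ conjHom lam g = post (cst k R) g := by
  classical
  constructor
  · intro h
    have h3 : ∀ (b : A) (n : ℤ), n ≠ 0 → g.ofConv ((theta k A lam b).coeff n) = 0 := fun b n hn =>
      h _ (Ideal.subset_span ⟨b, n, hn, rfl⟩)
    refine ofConv_injective (AlgHom.ext fun b => AddMonoidAlgebra.coeff_injective (Finsupp.ext fun n => ?_))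
    rw [coeff_conjHom]
    show g.ofConv _ = (AddMonoidAlgebra.single (0 : ℤ) (g.ofConv b)).coeff n
    by_cases hn : n = 0
    · subst hn
      rw [AddMonoidAlgebra.coeff_single, Finsupp.single_eq_same]
      conv_rhs => rw [eq_sum_theta lam b, map_sum]
      rw [Finset.sum_eq_single (0 : ℤ) (fun m _ hm => h3 b m hm)
        (fun h => by rw [Finsupp.notMem_support_iff.1 h, map_zero])]
    · rw [AddMonoidAlgebra.coeff_single, Finsupp.single_eq_of_ne hn]
      exact h3 b n hn
  · intro h x hx
    refine (Ideal.span_le.2 ?_ : fixIdeal lam ≤ RingHom.ker g.ofConv) hx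
    rintro _ ⟨b, n, hn, rfl⟩
    show g.ofConv _ = 0
    rw [← coeff_conjHom, h]
    show (AddMonoidAlgebra.single (0 : ℤ) (g.ofConv b)).coeff n = 0
    rw [AddMonoidAlgebra.coeff_single, Finsupp.single_eq_of_ne hn]

instance isHopfIdeal_fixIdeal : (fixIdeal lam).IsHopfIdeal k :=
  isHopfIdeal_of_represents (fun R => (conjHom (R := R) lam).eqLocus (post (cst k R))) _
    fun R _ _ g => fix_iff lam (toConv g)

theorem noIdem_fixIdeal {k : Type u} [Field k] {A : Type u} [CommRing A] [HopfAlgebra k A]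
    [Algebra.FiniteType k A] (lam : A →ₐc[k] k[T;T⁻¹]) (hA : ∀ e : A, IsIdempotentElem e → e = 0 ∨ e = 1) :
    ∀ e : A ⧸ fixIdeal lam, IsIdempotentElem e → e = 0 ∨ e = 1 := by
  classical
  have hP := (S3307.result k A lam (posIdeal lam) (oneIdeal lam) (posIdeal_represents lam)
    (oneIdeal_represents lam)).2 hA
  let q : A →ₐ[k] A ⧸ posIdeal lam := Ideal.Quotient.mkₐ k _
  have hq : Dyn.LimExists k A lam (A ⧸ posIdeal lam) q := (posIdeal_represents lam _ q).1 fun x hx =>
    Ideal.Quotient.eq_zero_iff_mem.2 hx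
  obtain ⟨h, hh⟩ := (limExists_iff_mem lam q).1 hq
  let z := post (ev0 (k := k) (A ⧸ posIdeal lam)) h
  have hza : ∀ b, z.ofConv b = q ((theta k A lam b).coeff 0) := fun b => by
    rw [show q ((theta k A lam b).coeff 0) = ((conjHom lam (toConv q)).ofConv b).coeff 0 from
      (coeff_conjHom lam (toConv q) b 0).symm, ← hh]
    show Polynomial.aeval (0 : A ⧸ posIdeal lam) (h.ofConv b) =
      (toL k (A ⧸ posIdeal lam) (h.ofConv b)).coeff ((0 : ℕ) : ℤ)
    rw [coeff_toL, Polynomial.coe_aeval_eq_eval, Polynomial.coeff_zero_eq_eval_zero]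
  have hzJ : ∀ x ∈ fixIdeal lam, z.ofConv x = 0 := by
    intro x hx
    refine (Ideal.span_le.2 ?_ : fixIdeal lam ≤ RingHom.ker z.ofConv) hx
    rintro _ ⟨b, n, hn, rfl⟩
    show z.ofConv _ = 0
    rw [hza, theta_coeff, AddMonoidAlgebra.coeff_single, Finsupp.single_eq_of_ne (Ne.symm hn), map_zero]
  intro e he
  let r : A ⧸ fixIdeal lam →ₐ[k] A ⧸ posIdeal lam := Ideal.Quotient.liftₐ _ z.ofConv hzJ
  let s : A ⧸ posIdeal lam →ₐ[k] A ⧸ fixIdeal lam :=
    Ideal.Quotient.liftₐ _ (Ideal.Quotient.mkₐ k _) fun x hx => Ideal.Quotient.eq_zero_iff_mem.2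
      ((Ideal.span_le.2 (by
        rintro _ ⟨b, n, hn, rfl⟩
        exact Ideal.subset_span ⟨b, n, hn.ne, rfl⟩) : posIdeal lam ≤ fixIdeal lam) hx)
  have hsr : ∀ a, s (r a) = a := by
    intro a
    obtain ⟨a, rfl⟩ := Ideal.Quotient.mk_surjective a
    show s (z.ofConv a) = _
    rw [hza]
    show Ideal.Quotient.mk (fixIdeal lam) ((theta k A lam a).coeff 0) = _
    refine Ideal.Quotient.eq.2 ?_
    conv => enter [2, 2]; rw [eq_sum_theta lam a]
    by_cases h0 : (0 : ℤ) ∈ (theta k A lam a).coeff.support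
    · rw [← Finset.add_sum_erase _ _ h0, sub_add_cancel_left]
      exact neg_mem (sum_mem fun m hm => Ideal.subset_span ⟨a, m, Finset.ne_of_mem_erase hm, rfl⟩)
    · rw [Finsupp.notMem_support_iff.1 h0, zero_sub]
      exact neg_mem (sum_mem fun m hm => Ideal.subset_span ⟨a, m, fun e => h0 (e ▸ hm), rfl⟩)
  rcases hP (r e) (he.map r) with h' | h'
  · left; rw [← hsr e, h', map_zero]
  · right; rw [← hsr e, h', map_one]

end one

/-- a homomorphism killing a Hopf ideal descends -/
theorem exists_factor {k : Type u} [CommRing k] {A : Type u} [CommRing A] [HopfAlgebra k A] {B : Type u} [CommRing B]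
    [Bialgebra k B] (J : Ideal A) [J.IsHopfIdeal k] (f : A →ₐc[k] B) (h : ∀ x ∈ J, f x = 0) :
    ∃ f' : A ⧸ J →ₐc[k] B, f'.comp (Bialgebra.Quotient.mkBialgHom J) = f := by
  let F : A ⧸ J →ₐ[k] B := Ideal.Quotient.liftₐ J (f : A →ₐ[k] B) h
  have hm : Function.Surjective (Ideal.Quotient.mkₐ k J) := Ideal.Quotient.mkₐ_surjective k J
  refine ⟨BialgHom.ofAlgHom F ?_ ?_, BialgHom.ext fun _ => rfl⟩
  · refine (AlgHom.cancel_right hm).1 (AlgHom.ext fun a => ?_)
    show Coalgebra.counit (f a) = Coalgebra.counit (Bialgebra.Quotient.mkBialgHom (R := k) J a)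
    rw [CoalgHomClass.counit_comp_apply, CoalgHomClass.counit_comp_apply]
  · refine (AlgHom.cancel_right hm).1 (AlgHom.ext fun a => ?_)
    show Algebra.TensorProduct.map F F (Coalgebra.comul (Bialgebra.Quotient.mkBialgHom (R := k) J a)) =
      Coalgebra.comul (f a)
    rw [← CoalgHomClass.map_comp_comul_apply, ← CoalgHomClass.map_comp_comul_apply]
    generalize Coalgebra.comul (R := k) a = z
    induction z using TensorProduct.induction_on with
    | zero => simp
    | add x y hx hy => simp only [map_add, hx, hy]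
    | tmul x y => rfl

/-- centralizers of commuting one-parameter subgroups -/
theorem exists_fixIdeal_family {k : Type u} [Field k] (n : ℕ) :
    ∀ (A : Type u) [CommRing A] [HopfAlgebra k A] [Algebra.FiniteType k A]
      (_ : ∀ e : A, IsIdempotentElem e → e = 0 ∨ e = 1) (lams : Fin n → (A →ₐc[k] k[T;T⁻¹]))
      (_ : ∀ i j, ∀ x ∈ fixIdeal (lams i), lams j x = 0),
      ∃ J : Ideal A, (∀ e : A ⧸ J, IsIdempotentElem e → e = 0 ∨ e = 1) ∧
        ∀ (R : Type u) [CommRing R] [Algebra k R] (g : WithConv (A →ₐ[k] R)),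
          (∀ x ∈ J, g.ofConv x = 0) ↔ ∀ i, conjHom (lams i) g = post (cst k R) g := by
  induction n with
  | zero =>
    intro A _ _ _ hA lams _
    refine ⟨⊥, fun e he => ?_, fun R _ _ g => ⟨fun _ i => i.elim0, fun _ x hx => by simp [Ideal.mem_bot.1 hx]⟩⟩
    rcases hA _ (he.map (AlgEquiv.quotientBot k A)) with h | h
    · left; exact (AlgEquiv.quotientBot k A).injective (h.trans (map_zero _).symm)
    · right; exact (AlgEquiv.quotientBot k A).injective (h.trans (map_one _).symm)
  | succ n ih =>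
    intro A _ _ _ hA lams hc
    let J₀ := fixIdeal (lams 0)
    let π : A →ₐc[k] A ⧸ J₀ := Bialgebra.Quotient.mkBialgHom J₀
    have hπ : Function.Surjective π := Ideal.Quotient.mk_surjective
    choose lam' hlam' using fun i : Fin n => exists_factor J₀ (lams i.succ) (hc 0 i.succ)
    have key : ∀ (i : Fin n) (R : Type u) [CommRing R] [Algebra k R] (g : WithConv ((A ⧸ J₀) →ₐ[k] R)),
        conjHom (lams i.succ) (pre π g) = post (cst k R) (pre π g) ↔ conjHom (lam' i) g = post (cst k R) g := by
      intro i R _ _ g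
      rw [← hlam' i, conjHom_pre, post_pre]
      exact (pre_injective π hπ).eq_iff
    have hc' : ∀ i j, ∀ x ∈ fixIdeal (lam' i), lam' j x = 0 := by
      intro i j x hx
      refine (fix_iff (lam' i) (toConv (lam' j : A ⧸ J₀ →ₐ[k] k[T;T⁻¹]))).2 ((key i _ _).1 ?_) x hx
      refine (fix_iff (lams i.succ) _).1 fun y hy => ?_
      show lam' j (π y) = 0
      rw [show lam' j (π y) = lams j.succ y from DFunLike.congr_fun (hlam' j) y]
      exact hc _ _ y hy
    obtain ⟨J', hJ', hrep⟩ := ih (A ⧸ J₀) (noIdem_fixIdeal (lams 0) hA) lam' hc'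
    refine ⟨J'.comap π, fun e he => ?_, fun R _ _ g => ?_⟩
    · let φ : A ⧸ J'.comap π →+* (A ⧸ J₀) ⧸ J' := Ideal.quotientMap J' (π : A →ₐ[k] A ⧸ J₀).toRingHom le_rfl
      have hinj : Function.Injective φ := Ideal.quotientMap_injective
      rcases hJ' _ (he.map φ) with h | h
      · left; exact hinj (h.trans (map_zero _).symm)
      · right; exact hinj (h.trans (map_one _).symm)
    · have hle : J₀ ≤ J'.comap π := fun x hx => by
        show π x ∈ J'
        rw [show π x = 0 from Ideal.Quotient.eq_zero_iff_mem.2 hx]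
        exact zero_mem _
      constructor
      · intro h
        let g' : WithConv ((A ⧸ J₀) →ₐ[k] R) := toConv (Ideal.Quotient.liftₐ J₀ g.ofConv fun x hx => h x (hle hx))
        have hg : pre π g' = g := rfl
        refine Fin.cases ((fix_iff _ g).1 fun x hx => h x (hle hx)) fun i => ?_
        rw [← hg, key]
        refine (hrep R g').1 (fun y hy => ?_) i
        obtain ⟨x, rfl⟩ := hπ y
        exact h x hy
      · intro h x hx
        let g' : WithConv ((A ⧸ J₀) →ₐ[k] R) := toConv (Ideal.Quotient.liftₐ J₀ g.ofConv ((fix_iff _ g).2 (h 0)))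
        have hg : pre π g' = g := rfl
        exact (hrep R g').2 (fun i => by rw [← key, hg]; exact h i.succ) (π x) hx

end

end Groth.Agent.H21Dyn
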