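import Groth.Agent.H21Dyn.Centralizer
import Mathlib.RingTheory.Bialgebra.MonoidAlgebra

/-!
Centralizers of split tori in connected affine groups are connected (Hopf algebra form).
-/

set_option autoImplicit false
set_option linter.style.haveILetI false
set_option maxHeartbeats 1000000

universe u

open LaurentPolynomial TensorProduct WithConv
open Groth.Agent.H20Dyn

namespace Groth.Agent.H21Dyn

noncomputable section

variable {k : Type u} [CommRing k] (n : ℕ)

/-- the group algebra of the lattice -/
abbrev Lat (k : Type u) [CommRing k] (n : ℕ) : Type u := MonoidAlgebra k (Multiplicative (Fin n → ℤ))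

variable {n}

/-- the coordinate cocharacters -/
def coord (i : Fin n) : Lat k n →ₐc[k] k[T;T⁻¹] :=
  BialgHom.ofAlgHom (MonoidAlgebra.lift k k[T;T⁻¹] (Multiplicative (Fin n → ℤ))
      { toFun := fun m => T (m.toAdd i)
        map_one' := T_zero
        map_mul' := fun a b => T_add _ _ })
    (MonoidAlgebra.algHom_ext (fun m => by simp) (Subsingleton.elim _ _))
    (MonoidAlgebra.algHom_ext (fun m => by simp) (Subsingleton.elim _ _))

theorem coord_single (i : Fin n) (m : Multiplicative (Fin n → ℤ)) :
    coord (k := k) i (MonoidAlgebra.single m 1) = T (m.toAdd i) := by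
  simp [coord]

variable {R : Type u} [CommRing R] [Algebra k R]

/-- points of the split torus -/
def torusPt : (Fin n → Rˣ) →* WithConv (Lat k n →ₐ[k] R) where
  toFun u := toConv (MonoidAlgebra.lift k R (Multiplicative (Fin n → ℤ))
    { toFun := fun m => ((∏ i, u i ^ (m.toAdd i) : Rˣ) : R)
      map_one' := by simp
      map_mul' := fun a b => by
        rw [← Units.val_mul, ← Finset.prod_mul_distrib]
        simp [zpow_add] })
  map_one' := ofConv_injective (MonoidAlgebra.algHom_ext (fun m => by simp [AlgHom.convOne_apply]) (Subsingleton.elim _ _))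
  map_mul' u v := ofConv_injective (MonoidAlgebra.algHom_ext (fun m => by
    simp [AlgHom.convMul_apply, MonoidAlgebra.comul_single, mul_zpow, Finset.prod_mul_distrib, Units.coe_prod]) (Subsingleton.elim _ _))

theorem torusPt_apply (u : Fin n → Rˣ) (m : Multiplicative (Fin n → ℤ)) :
    (torusPt (k := k) u).ofConv (MonoidAlgebra.single m 1) = ((∏ i, u i ^ (m.toAdd i) : Rˣ) : R) := by
  simp [torusPt]

theorem torusPt_surjective : Function.Surjective (torusPt (k := k) (n := n) (R := R)) := by
  classical
  intro t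
  let ω : Multiplicative (Fin n → ℤ) →* Rˣ :=
    ((t.ofConv : Lat k n →* R).comp (MonoidAlgebra.of k _)).toHomUnits
  refine ⟨fun i => ω (.ofAdd (Pi.single i 1)), ofConv_injective (MonoidAlgebra.algHom_ext (fun m => ?_) (Subsingleton.elim _ _))⟩
  rw [torusPt_apply]
  have hm : m = ∏ i, (Multiplicative.ofAdd (Pi.single (M := fun _ => ℤ) i 1)) ^ (m.toAdd i) := by
    refine Multiplicative.toAdd.injective ?_
    rw [toAdd_prod]
    funext j
    simp [Finset.sum_apply, Pi.single_apply]
  conv_rhs => rw [hm]
  rw [show (∏ i, ω (Multiplicative.ofAdd (Pi.single i 1)) ^ (m.toAdd i)) =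
    ω (∏ i, (Multiplicative.ofAdd (Pi.single (M := fun _ => ℤ) i 1)) ^ (m.toAdd i)) by
      simp [map_prod, map_zpow]]
  rfl

variable {k : Type u} [Field k] {n : ℕ} {R : Type u} [CommRing R] [Algebra k R] {A : Type u} [CommRing A] [HopfAlgebra k A]
  (ψ : A →ₐc[k] Lat k n)

theorem pre_torusPt_single [DecidableEq (Fin n)] (i : Fin n) (x : Rˣ) :
    pre ψ (torusPt (k := k) (Pi.mulSingle i x)) = pt ((coord i).comp ψ) x := by
  refine ofConv_injective (AlgHom.ext fun a => ?_)
  show (torusPt (k := k) (Pi.mulSingle i x)).ofConv (ψ a) = chi x (coord i (ψ a))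
  induction (ψ a) using MonoidAlgebra.induction_linear with
  | zero => simp
  | add p q hp hq => simp only [map_add, hp, hq]
  | single m r =>
    rw [show (MonoidAlgebra.single m r : Lat k n) = r • MonoidAlgebra.single m 1 by simp, map_smul, map_smul,
      map_smul, torusPt_apply, coord_single, chi_T,
      Fintype.prod_eq_single i (fun j hj => by simp [Pi.mulSingle_eq_of_ne hj]), Pi.mulSingle_eq_same]

/-- the centralizer of a split torus in a connected affine group is connected -/
theorem exists_torus_centralizer {k : Type u} [Field k] {A : Type u} [CommRing A] [HopfAlgebra k A]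
    [Algebra.FiniteType k A] (hA : ∀ e : A, IsIdempotentElem e → e = 0 ∨ e = 1) {n : ℕ} (ψ : A →ₐc[k] Lat k n) :
    ∃ J : Ideal A, (∀ e : A ⧸ J, IsIdempotentElem e → e = 0 ∨ e = 1) ∧
      ∀ (R : Type u) [CommRing R] [Algebra k R] (g : WithConv (A →ₐ[k] R)),
        (∀ x ∈ J, g.ofConv x = 0) ↔ ∀ (R' : Type u) [CommRing R'] [Algebra k R'] (φ : R →ₐ[k] R')
          (t : WithConv (Lat k n →ₐ[k] R')), post φ g * pre ψ t = pre ψ t * post φ g := by
  classical
  have key : ∀ (R : Type u) [CommRing R] [Algebra k R] (g : WithConv (A →ₐ[k] R)),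
      (∀ i : Fin n, conjHom ((coord i).comp ψ) g = post (cst k R) g) ↔
      ∀ (R' : Type u) [CommRing R'] [Algebra k R'] (φ : R →ₐ[k] R') (t : WithConv (Lat k n →ₐ[k] R')),
        post φ g * pre ψ t = pre ψ t * post φ g := by
    intro R _ _ g
    constructor
    · intro h R' _ _ φ t
      obtain ⟨u, rfl⟩ := torusPt_surjective (k := k) t
      let K : Subgroup (Fin n → R'ˣ) :=
        (Subgroup.centralizer {post φ g}).comap ((pre ψ).comp (torusPt (k := k) (R := R')))
      have hmem : u ∈ K := Subgroup.pi_mem_of_mulSingle_mem u fun i => by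
        show pre ψ (torusPt (k := k) (Pi.mulSingle i (u i))) ∈ Subgroup.centralizer {post φ g}
        rw [pre_torusPt_single, Subgroup.mem_centralizer_singleton_iff]
        letI : Algebra R R' := φ.toRingHom.toAlgebra
        haveI : IsScalarTower k R R' := IsScalarTower.of_algebraMap_eq fun r => (φ.commutes r).symm
        let ev : R[T;T⁻¹] →ₐ[k] R' := (AddMonoidAlgebra.lift R R' ℤ
          ((Units.coeHom _).comp (zpowersHom _ (u i)))).restrictScalars k
        have hev : ∀ (m : ℤ) (c : R), ev (AddMonoidAlgebra.single m c) = φ c * ((u i ^ m : R'ˣ) : R') := by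
          intro m c
          show AddMonoidAlgebra.lift R R' ℤ _ (AddMonoidAlgebra.single m c) = _
          rw [AddMonoidAlgebra.lift_single, Algebra.smul_def]
          rfl
        have h1 : Units.map ev.toRingHom.toMonoidHom (Tu R) = u i := Units.ext (by
          show ev (AddMonoidAlgebra.single 1 1) = _
          rw [hev, map_one, one_mul, zpow_one])
        have h2 : ev.comp (cst k R) = φ := AlgHom.ext fun r => by
          show ev (AddMonoidAlgebra.single 0 r) = _
          rw [hev, zpow_zero, Units.val_one, mul_one]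
        have h3 := congrArg (post ev) (h i)
        rw [conjHom_apply, map_mul, map_mul, map_inv, post_pt, h1, post_post, h2, mul_inv_eq_iff_eq_mul] at h3
        exact h3
      exact Subgroup.mem_centralizer_singleton_iff.1 hmem |>.symm
    · intro h i
      have h1 := h _ (cst k R) (torusPt (k := k) (Pi.mulSingle i (Tu R)))
      rw [pre_torusPt_single] at h1
      rw [conjHom_apply, ← h1, mul_inv_cancel_right]
  have hc : ∀ i j : Fin n, ∀ x ∈ fixIdeal ((coord i).comp ψ), ((coord j).comp ψ) x = 0 := by
    intro i j x hx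
    refine (fix_iff ((coord i).comp ψ) (toConv (((coord j).comp ψ : A →ₐc[k] k[T;T⁻¹]) : A →ₐ[k] k[T;T⁻¹]))).2 ?_ x hx
    let g₀ := pre ψ (toConv ((coord (k := k) j : Lat k n →ₐc[k] k[T;T⁻¹]) : Lat k n →ₐ[k] k[T;T⁻¹]))
    refine (key _ g₀).2 (fun R' _ _ φ t => ?_) i
    show post φ (pre ψ _) * pre ψ t = pre ψ t * post φ (pre ψ _)
    rw [post_pre, ← map_mul, ← map_mul]
    obtain ⟨u, rfl⟩ := torusPt_surjective (k := k) t
    obtain ⟨v, hv⟩ := torusPt_surjective (k := k)
      (post φ (toConv ((coord (k := k) j : Lat k n →ₐc[k] k[T;T⁻¹]) : Lat k n →ₐ[k] k[T;T⁻¹])))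
    rw [← hv, ← map_mul, ← map_mul, mul_comm v u]
  obtain ⟨J, hJ, hrep⟩ := exists_fixIdeal_family n A hA (fun i => (coord i).comp ψ) hc
  exact ⟨J, hJ, fun R _ _ g => (hrep R g).trans (key R g)⟩

end

end Groth.Agent.H21Dyn
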